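import Mathlib

/-! One dimensional Noetherian local rings and the product of their localisations at minimal primes. -/

set_option autoImplicit false

universe u

namespace Groth.Agent.DimOneLib

variable {A : Type u} [CommRing A]

theorem exists_pow_maximal_le [IsLocalRing A] [IsNoetherianRing A] (hdim : ringKrullDim A ≤ 1) (J : Ideal A)
    (hJ : ∀ p ∈ minimalPrimes A, ¬ J ≤ p) : ∃ N : ℕ, IsLocalRing.maximalIdeal A ^ N ≤ J := by
  haveI : Ring.KrullDimLE 1 A := (Ring.krullDimLE_iff (n := 1)).2 hdim
  refine Ideal.exists_pow_le_of_le_radical_of_fg ?_ (IsNoetherian.noetherian _)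
  rw [Ideal.radical_eq_sInf]
  refine le_sInf ?_
  rintro q ⟨hJq, hq⟩
  haveI := hq
  rcases Ring.krullDimLE_one_iff.1 ‹_› q hq with h | h
  · exact absurd hJq (hJ q h)
  · exact (IsLocalRing.eq_maximalIdeal h).ge

/-- For an element of the product of the localisations at minimal primes, some element outside a given
minimal prime multiplies it into the image of `A`. -/
theorem exists_smul_mem_range [IsNoetherianRing A]
    (t : ∀ p : {p : PrimeSpectrum A // p.asIdeal ∈ minimalPrimes A}, Localization.AtPrime p.1.asIdeal)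
    (p : {p : PrimeSpectrum A // p.asIdeal ∈ minimalPrimes A}) :
    ∃ r : A, r ∉ p.1.asIdeal ∧
      algebraMap A (∀ q : {q : PrimeSpectrum A // q.asIdeal ∈ minimalPrimes A}, Localization.AtPrime q.1.asIdeal) r * t ∈
        (algebraMap A (∀ q : {q : PrimeSpectrum A // q.asIdeal ∈ minimalPrimes A}, Localization.AtPrime q.1.asIdeal)).range := by
  classical
  haveI : Finite {q : PrimeSpectrum A // q.asIdeal ∈ minimalPrimes A} :=
    haveI := (minimalPrimes.finite_of_isNoetherianRing A).to_subtype
    Finite.of_injective (fun q : {q : PrimeSpectrum A // q.asIdeal ∈ minimalPrimes A} => (⟨q.1.asIdeal, q.2⟩ : minimalPrimes A))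
      (fun a b h => Subtype.ext (PrimeSpectrum.ext (congrArg Subtype.val h)))
  haveI := Fintype.ofFinite {q : PrimeSpectrum A // q.asIdeal ∈ minimalPrimes A}
  have he : ∀ q : {q : PrimeSpectrum A // q.asIdeal ∈ minimalPrimes A}, q ≠ p →
      ∃ x : A, x ∉ p.1.asIdeal ∧ algebraMap A (Localization.AtPrime q.1.asIdeal) x = 0 := by
    intro q hq
    obtain ⟨x, hxq, hxp⟩ := SetLike.not_le_iff_exists.1 fun hle : q.1.asIdeal ≤ p.1.asIdeal =>
      hq (Subtype.ext (PrimeSpectrum.ext (le_antisymm hle (p.2.2 q.2.1 hle))))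
    have hn : IsNilpotent (algebraMap A (Localization.AtPrime q.1.asIdeal) x) := by
      rw [← mem_nilradical, nilradical_eq_sInf, Ideal.mem_sInf]
      intro P hP
      haveI : P.IsPrime := hP
      have h1 := (IsLocalization.isPrime_iff_isPrime_disjoint q.1.asIdeal.primeCompl _ P).1 hP
      have h2 : P.comap (algebraMap A (Localization.AtPrime q.1.asIdeal)) ≤ q.1.asIdeal := fun z hz => by
        by_contra hn
        exact Set.disjoint_left.1 h1.2 hn hz
      exact q.2.2 ⟨h1.1, bot_le⟩ h2 hxq
    obtain ⟨n, hn⟩ := hn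
    exact ⟨x ^ n, fun h => hxp (p.1.isPrime.mem_of_pow_mem n h), by rw [map_pow, hn]⟩
  choose x hxp hx0 using he
  let e := ∏ q : {q : {q : PrimeSpectrum A // q.asIdeal ∈ minimalPrimes A} // q ≠ p}, x q.1 q.2
  obtain ⟨⟨b, s⟩, hbs⟩ := IsLocalization.surj p.1.asIdeal.primeCompl (t p)
  refine ⟨e * s, Ideal.IsPrime.mul_notMem inferInstance (fun he => ?_) s.2, e * b, ?_⟩
  · obtain ⟨q, -, hq⟩ := (Ideal.IsPrime.prod_mem_iff (p := p.1.asIdeal)).1 he
    exact hxp q.1 q.2 hq
  · funext q
    by_cases hq : q = p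
    · subst hq
      show algebraMap A _ (e * b) = algebraMap A _ (e * s) * t q
      rw [map_mul, map_mul, ← hbs]
      ring
    · have h0 : algebraMap A (Localization.AtPrime q.1.asIdeal) e = 0 := by
        rw [map_prod]
        exact Finset.prod_eq_zero (Finset.mem_univ ⟨q, hq⟩) (hx0 q hq)
      show algebraMap A _ (e * b) = algebraMap A _ (e * s) * t q
      rw [map_mul, map_mul, h0, zero_mul, zero_mul, zero_mul]

end Groth.Agent.DimOneLib
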